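import Mathlib
import Cfsg.Agent.UniTri.Basic
import Cfsg.Agent.GLFlags.Bruhat

/-!
In SL_n over the field with two elements a Sylow 2-subgroup is self-normalizing and permutes transitively the
Sylow 2-subgroups meeting it trivially.
-/

set_option autoImplicit false

namespace Cfsg.Agent.LinTwoSylow

open Matrix

variable {n : ℕ}

/-- The group. -/
abbrev SL2n (n : ℕ) := Matrix.SpecialLinearGroup (Fin n) (ZMod 2)

theorem zmod_two_ne {x : ZMod 2} (hx : x ≠ 0) : x = 1 := by revert hx; decide +revert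

theorem upper_mem_unitri {g : SL2n n} (hg : (g : Matrix (Fin n) (Fin n) (ZMod 2)).BlockTriangular id) :
    g ∈ UniTri.unitri n (ZMod 2) :=
  UniTri.mem_unitri.2 ⟨fun _ _ h => hg h, fun i => zmod_two_ne (UniTri.diag_ne_zero hg i)⟩

theorem normalizer_unitri : Subgroup.normalizer (UniTri.unitri n (ZMod 2) : Set (SL2n n)) = UniTri.unitri n (ZMod 2) :=
  le_antisymm (fun _ hg => upper_mem_unitri (UniTri.blockTriangular_of_mem_normalizer hg)) Subgroup.le_normalizer

theorem exists_lift (g : GL (Fin n) (ZMod 2)) : ∃ s : SL2n n, (s : Matrix (Fin n) (Fin n) (ZMod 2)) = g.1 :=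
  ⟨⟨g.1, zmod_two_ne (g.isUnit.map Matrix.detMonoidHom).ne_zero⟩, rfl⟩

theorem strictAnti_perm_unique {σ τ : Equiv.Perm (Fin n)} (hσ : StrictAnti σ) (hτ : StrictAnti τ) : σ = τ := by
  have h : StrictMono (τ.symm ∘ σ) := by
    intro a b hab
    by_contra hcon
    rw [not_lt] at hcon
    have h1 := hτ.antitone hcon
    simp only [Function.comp_apply, Equiv.apply_symm_apply] at h1
    exact absurd (hσ hab) (not_lt.2 h1)
  have hs : Function.Surjective (τ.symm ∘ σ) := τ.symm.surjective.comp σ.surjective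
  have : τ.symm ∘ σ = id := (StrictMono.range_inj h strictMono_id).1 (by rw [hs.range_eq, Set.range_id])
  exact Equiv.ext fun a => by
    have h2 := congrFun this a
    simp only [Function.comp_apply, id] at h2
    exact (Equiv.symm_apply_eq τ).1 h2

theorem exists_antitone_form {g : SL2n n}
    (hg : ∀ u ∈ UniTri.unitri n (ZMod 2), g * u * g⁻¹ ∈ UniTri.unitri n (ZMod 2) → u = 1) :
    ∃ u ∈ UniTri.unitri n (ZMod 2), ∃ σ : Equiv.Perm (Fin n), StrictAnti σ ∧ ∃ p : SL2n n,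
      (p : Matrix (Fin n) (Fin n) (ZMod 2)) = (GLFlags.permGL n (ZMod 2) σ).1 ∧
      ∃ b ∈ UniTri.unitri n (ZMod 2), g = u * p * b := by
  classical
  obtain ⟨u, hu, σ, b, hb, he⟩ := GLFlags.exists_bruhat (Matrix.SpecialLinearGroup.toGL g)
  obtain ⟨u', hu'⟩ := exists_lift u
  obtain ⟨p, hp⟩ := exists_lift (GLFlags.permGL n (ZMod 2) σ)
  obtain ⟨b', hb'⟩ := exists_lift b
  have hu'U : u' ∈ UniTri.unitri n (ZMod 2) := upper_mem_unitri (by rw [hu']; exact hu.1)
  have hb'U : b' ∈ UniTri.unitri n (ZMod 2) := upper_mem_unitri (by rw [hb']; exact hb)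
  have hg' : g = u' * p * b' := by
    refine Subtype.ext ?_
    have h1 := congrArg (fun x : GL (Fin n) (ZMod 2) => x.1) he
    simp only [Units.val_mul] at h1
    rw [Matrix.SpecialLinearGroup.coe_mul, Matrix.SpecialLinearGroup.coe_mul, hu', hp, hb']
    exact h1
  refine ⟨u', hu'U, σ, ?_, p, hp, b', hb'U, hg'⟩
  intro i j hij
  by_contra hcon
  have hσ : σ i < σ j := lt_of_le_of_ne (not_lt.1 hcon) (σ.injective.ne hij.ne)
  set t : SL2n n := Matrix.SpecialLinearGroup.transvection hij.ne 1 with ht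
  set t' : SL2n n := Matrix.SpecialLinearGroup.transvection hσ.ne 1 with ht'
  have hpt : p * t = t' * p := by
    refine Subtype.ext (Matrix.ext fun r s => ?_)
    rw [Matrix.SpecialLinearGroup.coe_mul, Matrix.SpecialLinearGroup.coe_mul, hp, GLFlags.permGL_mul_apply,
      GLFlags.mul_permGL_apply, UniTri.tv_apply, UniTri.tv_apply]
    simp [Matrix.one_apply, Equiv.symm_apply_eq, σ.injective.eq_iff]
  have hmem : g * (b'⁻¹ * t * b') * g⁻¹ ∈ UniTri.unitri n (ZMod 2) := by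
    have e : g * (b'⁻¹ * t * b') * g⁻¹ = u' * t' * u'⁻¹ := by
      rw [hg', eq_mul_inv_of_mul_eq hpt.symm]
      group
    rw [e]
    exact mul_mem (mul_mem hu'U (UniTri.tv_mem hσ 1)) (inv_mem hu'U)
  have h1 := hg _ (mul_mem (mul_mem (inv_mem hb'U) (UniTri.tv_mem hij 1)) hb'U) hmem
  have h2 : t = 1 := by
    have h3 := congrArg (fun x => b' * x * b'⁻¹) h1
    simpa [mul_assoc] using h3
  have h4 := congrArg (fun x : SL2n n => (x : Matrix (Fin n) (Fin n) (ZMod 2)) i j) h2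
  simp [ht, UniTri.tv_apply, Matrix.one_apply_ne hij.ne] at h4

theorem conj_eq_of_opp {g g' : SL2n n}
    (hg : ∀ u ∈ UniTri.unitri n (ZMod 2), g * u * g⁻¹ ∈ UniTri.unitri n (ZMod 2) → u = 1)
    (hg' : ∀ u ∈ UniTri.unitri n (ZMod 2), g' * u * g'⁻¹ ∈ UniTri.unitri n (ZMod 2) → u = 1) :
    ∃ a ∈ UniTri.unitri n (ZMod 2), ∃ b ∈ UniTri.unitri n (ZMod 2), g' = a * g * b := by
  obtain ⟨u, hu, σ, hσ, p, hp, b, hb, rfl⟩ := exists_antitone_form hg
  obtain ⟨u', hu', σ', hσ', p', hp', b', hb', rfl⟩ := exists_antitone_form hg'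
  obtain rfl := strictAnti_perm_unique hσ hσ'
  obtain rfl : p = p' := Subtype.ext (hp.trans hp'.symm)
  exact ⟨u' * u⁻¹, mul_mem hu' (inv_mem hu), b⁻¹ * b', mul_mem (inv_mem hb) hb', by group⟩

end Cfsg.Agent.LinTwoSylow
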