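import Mathlib
import Cfsg.Agent.LinTwoSylow.Opp
import Cfsg.Agent.Invol.SylowNormal

/-!
An overgroup of index two of SL_n over the field with two elements has no two Sylow 2-subgroups meeting trivially.
-/

set_option autoImplicit false

namespace Cfsg.Agent.LinTwoSylow

open Subgroup

variable {n : ℕ}

theorem sylow_form (P : Sylow 2 (SL2n n)) :
    ∃ c : SL2n n, ∀ u, u ∈ (P : Subgroup (SL2n n)) ↔ c⁻¹ * u * c ∈ UniTri.unitri n (ZMod 2) := by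
  obtain ⟨U, hU⟩ := UniTri.exists_sylow (n := n) (K := ZMod 2) 2
  obtain ⟨c, hc⟩ := MulAction.exists_smul_eq (SL2n n) U P
  refine ⟨c, fun u => ?_⟩
  rw [← hc, Sylow.smul_def, Sylow.pointwise_smul_def, Subgroup.mem_pointwise_smul_iff_inv_smul_mem, hU]
  simp [MulAut.smul_def]

theorem self_normalizing (P : Sylow 2 (SL2n n)) {g : SL2n n}
    (hg : ∀ u, u ∈ (P : Subgroup (SL2n n)) ↔ g * u * g⁻¹ ∈ (P : Subgroup (SL2n n))) : g ∈ (P : Subgroup (SL2n n)) := by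
  obtain ⟨c, hc⟩ := sylow_form P
  rw [hc, ← normalizer_unitri, Subgroup.mem_normalizer_iff]
  intro v
  have h := hg (c * v * c⁻¹)
  rw [hc, hc] at h
  have e1 : c⁻¹ * (c * v * c⁻¹) * c = v := by group
  have e2 : c⁻¹ * (g * (c * v * c⁻¹) * g⁻¹) * c = c⁻¹ * g * c * v * (c⁻¹ * g * c)⁻¹ := by group
  rw [e1, e2] at h
  exact h

theorem transitive_opp (P Q R : Sylow 2 (SL2n n)) (hQ : (P : Subgroup (SL2n n)) ⊓ Q = ⊥)
    (hR : (P : Subgroup (SL2n n)) ⊓ R = ⊥) :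
    ∃ a ∈ (P : Subgroup (SL2n n)), ∀ u, u ∈ (R : Subgroup (SL2n n)) ↔ a⁻¹ * u * a ∈ (Q : Subgroup (SL2n n)) := by
  obtain ⟨c, hc⟩ := sylow_form P
  obtain ⟨d, hd⟩ := sylow_form Q
  obtain ⟨d', hd'⟩ := sylow_form R
  have key : ∀ (S : Sylow 2 (SL2n n)) (d : SL2n n), (P : Subgroup (SL2n n)) ⊓ S = ⊥ →
      (∀ u, u ∈ (S : Subgroup (SL2n n)) ↔ d⁻¹ * u * d ∈ UniTri.unitri n (ZMod 2)) →
      ∀ u ∈ UniTri.unitri n (ZMod 2), c⁻¹ * d * u * (c⁻¹ * d)⁻¹ ∈ UniTri.unitri n (ZMod 2) → u = 1 := by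
    intro S d hS hd u hu hu'
    have h1 : d * u * d⁻¹ ∈ (P : Subgroup (SL2n n)) ⊓ S := by
      refine ⟨(hc _).2 ?_, (hd _).2 ?_⟩
      · rw [show c⁻¹ * (d * u * d⁻¹) * c = c⁻¹ * d * u * (c⁻¹ * d)⁻¹ by group]; exact hu'
      · rw [show d⁻¹ * (d * u * d⁻¹) * d = u by group]; exact hu
    rw [hS, Subgroup.mem_bot, conj_eq_one_iff] at h1
    exact h1
  obtain ⟨a, ha, b, hb, he⟩ := conj_eq_of_opp (key Q d hQ hd) (key R d' hR hd')
  refine ⟨c * a * c⁻¹, (hc _).2 (by rw [show c⁻¹ * (c * a * c⁻¹) * c = a by group]; exact ha), fun u => ?_⟩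
  rw [hd', hd]
  have e : d' = c * a * c⁻¹ * d * b := by
    calc d' = c * (c⁻¹ * d') := by group
      _ = c * (a * (c⁻¹ * d) * b) := by rw [he]
      _ = c * a * c⁻¹ * d * b := by group
  set v := d⁻¹ * ((c * a * c⁻¹)⁻¹ * u * (c * a * c⁻¹)) * d with hv
  have e2 : d'⁻¹ * u * d' = b⁻¹ * v * b := by rw [hv, e]; group
  rw [e2]
  refine ⟨fun h => ?_, fun h => mul_mem (mul_mem (inv_mem hb) h) hb⟩
  have h2 := mul_mem (mul_mem hb h) (inv_mem hb)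
  rwa [show b * (b⁻¹ * v * b) * b⁻¹ = v by group] at h2

theorem sylow_inf_ne_bot {G : Type*} [Group G] [Finite G] (N : Subgroup G) [N.Normal] (e : N ≃* SL2n n)
    (hidx : N.index = 2) (H K : Sylow 2 G) : (H : Subgroup G) ⊓ (K : Subgroup G) ≠ ⊥ := by
  intro hbot
  set φ : SL2n n →* G := N.subtype.comp e.symm.toMonoidHom with hφ
  have hφi : Function.Injective φ := N.subtype_injective.comp e.symm.injective
  have hφN : ∀ s, φ s ∈ N := fun s => (e.symm s).2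
  have hφs : ∀ g ∈ N, ∃ s, φ s = g := fun g hg => ⟨e ⟨g, hg⟩, by simp [φ]⟩
  have hsyl : ∀ X : Sylow 2 G, ∃ P : Sylow 2 (SL2n n), ∀ s, s ∈ (P : Subgroup (SL2n n)) ↔ φ s ∈ (X : Subgroup G) := by
    intro X
    obtain ⟨P, hP⟩ := Invol.exists_sylow_eq_inf X N
    refine ⟨P.mapSurjective (f := (e : N →* SL2n n)) e.surjective, fun s => ?_⟩
    show s ∈ Subgroup.map (e : N →* SL2n n) (P : Subgroup N) ↔ _
    rw [hP]
    constructor
    · rintro ⟨y, hy, rfl⟩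
      have h1 : φ ((e : N →* SL2n n) y) = (y : G) := by simp [φ]
      rw [h1]
      exact hy.1
    · intro h
      exact ⟨e.symm s, ⟨h, (e.symm s).2⟩, by simp⟩
  obtain ⟨P, hP⟩ := hsyl H
  obtain ⟨Q, hQ⟩ := hsyl K
  have houter : ∀ X : Sylow 2 G, ∃ x ∈ (X : Subgroup G), x ∉ N := by
    intro X
    by_contra hcon
    push Not at hcon
    have h2 := Subgroup.index_dvd_of_le (K := N) hcon
    rw [hidx] at h2
    exact X.not_dvd_index h2
  obtain ⟨h, hhH, hhN⟩ := houter H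
  obtain ⟨k, hkK, hkN⟩ := houter K
  set c := MulAut.conj h
  obtain ⟨R, hR⟩ := hsyl (c • K)
  have hconjR : ∀ s, φ s ∈ ((c • K : Sylow 2 G) : Subgroup G) ↔ h⁻¹ * φ s * h ∈ (K : Subgroup G) := fun s => by
    rw [Sylow.pointwise_smul_def, Subgroup.mem_pointwise_smul_iff_inv_smul_mem]
    simp [c, MulAut.smul_def]
  have hPQ : (P : Subgroup (SL2n n)) ⊓ Q = ⊥ := by
    refine (Subgroup.eq_bot_iff_forall _).2 fun s ⟨h1, h2⟩ => hφi ?_
    have h3 : φ s ∈ (H : Subgroup G) ⊓ K := ⟨(hP s).1 h1, (hQ s).1 h2⟩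
    rw [hbot, Subgroup.mem_bot] at h3
    rw [h3, map_one]
  have hPR : (P : Subgroup (SL2n n)) ⊓ R = ⊥ := by
    refine (Subgroup.eq_bot_iff_forall _).2 fun s ⟨h1, h2⟩ => hφi ?_
    have h3 : h⁻¹ * φ s * h ∈ (H : Subgroup G) ⊓ K :=
      ⟨(H : Subgroup G).mul_mem ((H : Subgroup G).mul_mem ((H : Subgroup G).inv_mem hhH) ((hP s).1 h1)) hhH,
        (hconjR s).1 ((hR s).1 h2)⟩
    rw [hbot, Subgroup.mem_bot] at h3
    rw [map_one]
    calc φ s = h * (h⁻¹ * φ s * h) * h⁻¹ := by group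
      _ = 1 := by rw [h3]; group
  obtain ⟨a, ha, haR⟩ := transitive_opp P Q R hPQ hPR
  set y := (φ a)⁻¹ * h with hy
  have hyH : y ∈ (H : Subgroup G) := mul_mem (inv_mem ((hP a).1 ha)) hhH
  have hyN : y ∉ N := fun hh => hhN (by
    rw [show h = φ a * y by rw [hy]; group]
    exact mul_mem (hφN a) hh)
  have hy1 : y ≠ 1 := fun hh => hyN (hh ▸ one_mem N)
  have hnorm : ∀ s, φ s ∈ (K : Subgroup G) ↔ y⁻¹ * φ s * y ∈ (K : Subgroup G) := fun s => by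
    have h1 := haR (a * s * a⁻¹)
    rw [show a⁻¹ * (a * s * a⁻¹) * a = s by group, hR, hconjR, hQ] at h1
    rw [← h1, hy, map_mul, map_mul, map_inv]
    group
  have hyk : y * k⁻¹ ∈ N := by
    have h1 := Subgroup.mul_mem_iff_of_index_two hidx (a := y) (b := k⁻¹)
    rw [inv_mem_iff (x := k) (H := N)] at h1
    exact h1.2 (iff_of_false hyN hkN)
  obtain ⟨s, hs⟩ := hφs _ hyk
  have hsQ : s⁻¹ ∈ (Q : Subgroup (SL2n n)) := by
    refine self_normalizing Q fun u => ?_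
    rw [inv_inv, hQ, hQ, map_mul, map_mul, map_inv, hs, hnorm u,
      show (y * k⁻¹)⁻¹ * φ u * (y * k⁻¹) = k * (y⁻¹ * φ u * y) * k⁻¹ by group]
    refine ⟨fun h1 => mul_mem (mul_mem hkK h1) (inv_mem hkK), fun h1 => ?_⟩
    have h2 := mul_mem (mul_mem (inv_mem hkK) h1) hkK
    rwa [show k⁻¹ * (k * (y⁻¹ * φ u * y) * k⁻¹) * k = y⁻¹ * φ u * y by group] at h2
  have hyK : y ∈ (K : Subgroup G) := by
    have h1 := (hQ s).1 (inv_mem_iff.1 hsQ)
    rw [hs] at h1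
    simpa using mul_mem h1 hkK
  have h3 : y ∈ (H : Subgroup G) ⊓ K := ⟨hyH, hyK⟩
  rw [hbot, Subgroup.mem_bot] at h3
  exact hy1 h3

end Cfsg.Agent.LinTwoSylow
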